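import Cfsg.Agent.Lib.Co2Recog.Layers.Reps
import Cfsg.Agent.Lib.Co1Recog.BaseChecks
import Cfsg.Agent.Lib.Co1Recog.Amalgam.Completion

/-!
Cosets of the monomial subgroup of the second Conway group as crosses, and the layers of their graph.
-/

set_option autoImplicit false
set_option maxRecDepth 10000

noncomputable section

namespace Cfsg.Agent.Co2Recog.Layers

open Cfsg Cfsg.Agent.Golay Cfsg.Agent.Leech Cfsg.Agent.Co1Recog
open Cfsg.Agent.Co1Amalgam (edgeAdj)
open Cfsg.Agent.Co1Out (el)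
open scoped Pointwise

attribute [local irreducible] goodIdx baseWit gBMat gC6Mat gC42Mat gGMat sxData

/-- The group inside the automorphisms of the lattice. -/
def incl2 : ↥Spor.Co2 →* Co0 := Subgroup.inclusion (inf_le_left : Spor.Co2 ≤ Co0)

/-- The monomial elements of the group. -/
def N2 : Subgroup ↥Spor.Co2 := crossStab.comap incl2

/-- An element fixing the vector, in the group. -/
def liftU (g : Co0) (h : g • Spor.leechU = Spor.leechU) : ↥Spor.Co2 := ⟨(g : Equiv.Perm leechLattice), g.2, h⟩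

theorem incl2_lift (g : Co0) (h : g • Spor.leechU = Spor.leechU) : incl2 (liftU g h) = g := rfl

theorem incl2_fix (p : ↥Spor.Co2) : incl2 p • Spor.leechU = Spor.leechU := p.2.2

theorem smul_stdX_iff {g h : Co0} : g • stdX = h • stdX ↔ g⁻¹ * h ∈ crossStab := by
  rw [crossStab, MulAction.mem_stabilizer_iff, ← stdX, mul_smul, inv_smul_eq_iff, eq_comm]

theorem coset_iff {p q : ↥Spor.Co2} :
    ((p : ↥Spor.Co2) : ↥Spor.Co2 ⧸ N2) = (q : ↥Spor.Co2 ⧸ N2) ↔ incl2 p • stdX = incl2 q • stdX := by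
  rw [QuotientGroup.eq, N2, Subgroup.mem_comap, map_mul, map_inv, smul_stdX_iff]

/-- The cross of a coset. -/
def cx (x : ↥Spor.Co2 ⧸ N2) : Set leechLattice := incl2 x.out • stdX

theorem cx_mk (p : ↥Spor.Co2) : cx (p : ↥Spor.Co2 ⧸ N2) = incl2 p • stdX :=
  coset_iff.1 (QuotientGroup.out_eq' _)

theorem cx_injective : Function.Injective cx := fun x y h => by
  rw [← QuotientGroup.out_eq' x, ← QuotientGroup.out_eq' y]
  exact coset_iff.2 h

theorem exists_four {g : Co0} (h : g • Spor.leechU = Spor.leechU) :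
    ∃ w ∈ g • stdX, ip w Spor.leechU = 4 := by
  refine ⟨g • axis none, Set.smul_mem_smul_set (self_mem_xCross (ip_axis_self none)), ?_⟩
  rw [← h, co0_ip, ip_comm, ip_axis]
  rfl

theorem vecU_outside : ∀ p : GolayPt, p ≠ none → p ≠ some 0 → Spor.vecU p = 0 := by decide +kernel

theorem idx_pair : idx none = 23 ∧ idx (some 0) = 0 := by decide +kernel

theorem exists_good {Y : Set leechLattice} (hY : Y ∈ crossOrbit .B) (h : ∃ w ∈ Y, ip w Spor.leechU = 4) :
    ∃ m < 462, Y = nbr (giAt m) := by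
  obtain ⟨j, hj, rfl⟩ := exists_nbr baseOK_all hY
  obtain ⟨w, hw, hip⟩ := h
  obtain ⟨U, hU, hb⟩ := cases_nbr baseOK_all hj hw
  have hd : dotInt (w : GolayPt → ℤ) Spor.leechU =
      (w : GolayPt → ℤ) none * 4 + (w : GolayPt → ℤ) (some 0) * 4 := by
    show ∑ p, (w : GolayPt → ℤ) p * Spor.vecU p = _
    rw [Finset.sum_eq_add none (some 0) (by simp) (fun p _ hp => by rw [vecU_outside p hp.1 hp.2, mul_zero])
      (by simp) (by simp)]
    rfl
  rw [← eight_ip, hip] at hd
  obtain ⟨m, hm, e⟩ := exists_gi hj (by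
    simp only [pairPred, List.any_eq_true, Bool.and_eq_true]
    refine ⟨U, hU, ?_⟩
    rw [← idx_pair.1, ← idx_pair.2]
    rcases hb.val none with ⟨a, b | b⟩ | ⟨a, b⟩ <;> rcases hb.val (some 0) with ⟨c, d | d⟩ | ⟨c, d⟩ <;>
      first
        | exact ⟨a, c⟩
        | omega)
  exact ⟨m, hm, by rw [e]⟩

theorem layer_stdX : layer stdX = 0 := by rw [layer, if_pos rfl]

theorem layer_smul {k : Co0} (hk : k ∈ crossStab) {X : Set leechLattice}
    (h : X = stdX ∨ ∃ t, X ∈ crossOrbit t) : layer (k • X) = layer X := by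
  rcases h with rfl | ⟨t, ht⟩
  · rw [show k • stdX = stdX from MulAction.mem_stabilizer_iff.1 hk]
  · obtain ⟨a, rfl⟩ := fixesStd_iff.1 (mem_crossStab.1 hk)
    rw [layer_of_orbit ht, layer_of_orbit (mono_smul_crossOrbit a ht)]

theorem smul_stdX_cases (g : Co0) : g • stdX = stdX ∨ ∃ t, g • stdX ∈ crossOrbit t := by
  rw [stdX, smul_xCross]
  exact cross_cases ((co0_ip _ _ _).trans (ip_axis_self none))

theorem layer_eq_zero {g : Co0} (h : layer (g • stdX) = 0) : g • stdX = stdX := by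
  rcases smul_stdX_cases g with e | ⟨t, ht⟩
  · exact e
  · rw [layer_of_orbit ht] at h
    cases t <;> simp at h

theorem layer_le {g : Co0} : layer (g • stdX) ≤ 3 := by
  rcases smul_stdX_cases g with e | ⟨t, ht⟩
  · rw [e, layer_stdX]; omega
  · rw [layer_of_orbit ht]
    cases t <;> simp

theorem rep_layer {tg : ℕ} (h : tagT tg = true) : layer (el (reps tg).1.1 • stdX) = layT tg := by
  obtain ⟨hg, hax, -, htag⟩ := reps_ok h
  have hv := axOK_spec hg.1 hax (show (0 : ℕ) < 24 by norm_num)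
  rw [← xCross_axis (pt ⟨0, by norm_num⟩), smul_xCross]
  exact layer_tag (tag_spec htag hv (by rw [co0_ip]; exact ip_axis_self _))

/-- A cross is the base or a translate of a representative. -/
def Normal (X : Set leechLattice) : Prop :=
  X = stdX ∨ ∃ k ∈ Nst, ∃ tg, tagT tg = true ∧ X = k • el (reps tg).1.1 • stdX

/-- The local facts at all four representatives. -/
abbrev AllLocal : Prop := ∀ tg, tagT tg = true → LocalU reps giAt (el (reps tg).1.1) (layT tg)

theorem nst_mul {k : Co0} (hk : k ∈ Nst) {X : Set leechLattice} (h : Normal X) : Normal (k • X) := by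
  rcases h with rfl | ⟨k', hk', tg, ht, rfl⟩
  · exact Or.inl (MulAction.mem_stabilizer_iff.1 hk.1)
  · exact Or.inr ⟨k * k', mul_mem hk hk', tg, ht, (mul_smul _ _ _).symm⟩

variable {σ : ↥Spor.Co2} (hσ : incl2 σ • stdX ∈ crossOrbit .B)
include hσ

theorem move_base {m : ℕ} (hm : m < 462) : ∃ k ∈ Nst, k • incl2 σ • stdX = nbr (giAt m) := by
  obtain ⟨m1, hm1, e1⟩ := exists_good hσ (exists_four (incl2_fix σ))
  obtain ⟨k1, hk1, h1⟩ := base_move baseOK_all (giAt_lt (by norm_num)) (base_all m1 hm1)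
  obtain ⟨k, hk, h⟩ := base_move baseOK_all (giAt_lt (by norm_num)) (base_all m hm)
  exact ⟨k * k1⁻¹, mul_mem hk (inv_mem hk1), by rw [e1, ← h1, mul_smul, inv_smul_smul, h]⟩

theorem good_mem {m : ℕ} (hm : m < 462) : nbr (giAt m) ∈ crossOrbit .B :=
  nbr_mem baseOK_all (giAt_lt hm)

theorem edgeAdj_iff {x y : ↥Spor.Co2 ⧸ N2} : edgeAdj N2 σ x y ↔ Adj (cx x) (cx y) := by
  constructor
  · rintro ⟨p, rfl, rfl⟩
    rw [cx_mk, cx_mk, map_mul, mul_smul, adj_iff_of rfl, inv_smul_smul]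
    exact hσ
  · intro h
    obtain ⟨p, rfl⟩ := QuotientGroup.mk_surjective x
    obtain ⟨q, rfl⟩ := QuotientGroup.mk_surjective y
    rw [cx_mk, cx_mk, adj_iff_of rfl, ← map_inv, ← mul_smul, ← map_mul] at h
    obtain ⟨m, hm, e⟩ := exists_good h (exists_four (incl2_fix _))
    obtain ⟨k, hk, hkm⟩ := move_base hσ hm
    have hkU : k • Spor.leechU = Spor.leechU := MulAction.mem_stabilizer_iff.1 hk.2
    refine ⟨p * liftU k hkU, coset_iff.2 ?_, coset_iff.2 ?_⟩
    · rw [map_mul, incl2_lift, mul_smul, show k • stdX = stdX from MulAction.mem_stabilizer_iff.1 hk.1]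
    · rw [map_mul, map_mul, incl2_lift, mul_smul, mul_smul, hkm, ← e, map_mul, map_inv, mul_smul,
        smul_inv_smul]

/-- Neighbours of a translate. -/
theorem nb {x y : ↥Spor.Co2 ⧸ N2} {g : Co0} (hg : g • Spor.leechU = Spor.leechU) (hx : cx x = g • stdX)
    (h : edgeAdj N2 σ x y) : ∃ m < 462, cx y = g • nbr (giAt m) := by
  rw [edgeAdj_iff hσ, hx, adj_iff_of rfl] at h
  have hh : g⁻¹ * incl2 y.out ∈ MulAction.stabilizer Co0 Spor.leechU :=
    mul_mem (inv_mem (MulAction.mem_stabilizer_iff.2 hg)) (MulAction.mem_stabilizer_iff.2 (incl2_fix _))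
  obtain ⟨m, hm, e⟩ := exists_good h (by
    rw [cx, ← mul_smul]
    exact exists_four (MulAction.mem_stabilizer_iff.1 hh))
  exact ⟨m, hm, by rw [← e, smul_inv_smul]⟩

/-- Every neighbour index gives a coset. -/
theorem nb_exists {g : Co0} (hg : g • Spor.leechU = Spor.leechU) {m : ℕ} (hm : m < 462) :
    ∃ y : ↥Spor.Co2 ⧸ N2, cx y = g • nbr (giAt m) := by
  obtain ⟨k, hk, hkm⟩ := move_base hσ hm
  refine ⟨((liftU g hg * liftU k (MulAction.mem_stabilizer_iff.1 hk.2) * σ : ↥Spor.Co2) : ↥Spor.Co2 ⧸ N2), ?_⟩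
  rw [cx_mk, map_mul, map_mul, incl2_lift, incl2_lift, mul_smul, mul_smul, hkm]

variable (hL : AllLocal)
include hL

theorem normal_nbr {m : ℕ} (hm : m < 462) : Normal (nbr (giAt m)) := by
  have h1 : tagT 1 = true := rfl
  obtain ⟨hg, hax, hu, htag⟩ := reps_ok h1
  have hB : el (reps 1).1.1 • stdX ∈ crossOrbit .B := by
    have hv := axOK_spec hg.1 hax (show (0 : ℕ) < 24 by norm_num)
    rw [← xCross_axis (pt ⟨0, by norm_num⟩), smul_xCross]
    exact tag_spec htag hv (by rw [co0_ip]; exact ip_axis_self _)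
  obtain ⟨m1, hm1, e1⟩ := exists_good hB (exists_four (uFixed_spec hg.1 hu))
  obtain ⟨k1, hk1, h1'⟩ := base_move baseOK_all (giAt_lt (by norm_num)) (base_all m1 hm1)
  obtain ⟨k, hk, h⟩ := base_move baseOK_all (giAt_lt (by norm_num)) (base_all m hm)
  exact Or.inr ⟨k * k1⁻¹, mul_mem hk (inv_mem hk1), 1, h1, by rw [e1, ← h1', mul_smul, inv_smul_smul, h]⟩

theorem normal_edge {x y : ↥Spor.Co2 ⧸ N2} (hx : Normal (cx x)) (h : edgeAdj N2 σ x y) : Normal (cx y) := by
  rcases hx with e | ⟨k, hk, tg, ht, e⟩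
  · obtain ⟨m, hm, hy⟩ := nb hσ (one_smul Co0 _) (by rw [e, one_smul]) h
    rw [hy, one_smul]
    exact normal_nbr hσ hL hm
  · obtain ⟨m, hm, hy⟩ := nb hσ (g := k * el (reps tg).1.1)
      (by rw [mul_smul, (hL tg ht).fixU]; exact MulAction.mem_stabilizer_iff.1 hk.2) (by rw [mul_smul, e]) h
    rw [hy, mul_smul]
    refine nst_mul hk ?_
    exact (hL tg ht).orb m hm

variable (hgen : Subgroup.closure ((N2 : Set ↥Spor.Co2) ∪ {σ}) = ⊤)
include hgen

theorem normal_all (x : ↥Spor.Co2 ⧸ N2) : Normal (cx x) := by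
  obtain ⟨p, rfl⟩ := QuotientGroup.mk_surjective x
  have hfin : Finite ↥Spor.Co2 := by
    have : Finite Co0 := Nat.finite_of_card_ne_zero (by rw [card_Co0]; norm_num)
    exact Finite.of_injective incl2 (Subgroup.inclusion_injective _)
  have hstep : ∀ (n : ℕ) (q : ↥Spor.Co2), Normal (cx (q : ↥Spor.Co2 ⧸ N2)) →
      Normal (cx ((q * σ ^ n : ↥Spor.Co2) : ↥Spor.Co2 ⧸ N2)) := by
    intro n
    induction n with
    | zero => intro q hq; rwa [pow_zero, mul_one]
    | succ n ih =>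
      intro q hq
      refine normal_edge hσ hL (ih q hq) ⟨q * σ ^ n, rfl, ?_⟩
      rw [pow_succ, mul_assoc]
  have hp : p ∈ Subgroup.closure ((N2 : Set ↥Spor.Co2) ∪ {σ}) := hgen ▸ Subgroup.mem_top p
  induction hp using Subgroup.closure_induction_right with
  | one => exact Or.inl (by rw [cx_mk, map_one, one_smul])
  | mul_right q _ y hy ih =>
    rcases hy with hy | hy
    · rwa [← QuotientGroup.eq.2 (show q⁻¹ * (q * y) ∈ N2 by rw [inv_mul_cancel_left]; exact hy)]
    · rw [Set.mem_singleton_iff.1 hy]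
      have := hstep 1 q ih
      rwa [pow_one] at this
  | mul_inv_cancel q _ y hy ih =>
    rcases hy with hy | hy
    · rwa [← QuotientGroup.eq.2 (show q⁻¹ * (q * y⁻¹) ∈ N2 by rw [inv_mul_cancel_left]; exact inv_mem hy)]
    · rw [Set.mem_singleton_iff.1 hy]
      have := hstep (orderOf σ - 1) q ih
      rwa [show σ ^ (orderOf σ - 1) = σ⁻¹ from by
        refine eq_inv_of_mul_eq_one_left ?_
        rw [← pow_succ, Nat.sub_add_cancel (orderOf_pos σ), pow_orderOf_eq_one]] at this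

theorem normal_pos {x : ↥Spor.Co2 ⧸ N2} (h : layer (cx x) ≠ 0) : ∃ k ∈ Nst, ∃ tg, tagT tg = true ∧
    cx x = (k * el (reps tg).1.1) • stdX ∧ (k * el (reps tg).1.1) • Spor.leechU = Spor.leechU ∧
    layer (cx x) = layT tg ∧
    ∀ m, layer ((k * el (reps tg).1.1) • nbr (giAt m)) = layer (el (reps tg).1.1 • nbr (giAt m)) ∨ 462 ≤ m := by
  rcases normal_all hσ hL hgen x with e | ⟨k, hk, tg, ht, e⟩
  · exact absurd (by rw [e, layer_stdX]) h
  refine ⟨k, hk, tg, ht, by rw [mul_smul, e], ?_, ?_, fun m => ?_⟩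
  · rw [mul_smul, (hL tg ht).fixU]; exact MulAction.mem_stabilizer_iff.1 hk.2
  · rw [e, layer_smul hk.1 (smul_stdX_cases _), rep_layer ht]
  · rcases Nat.lt_or_ge m 462 with hm | hm
    · left
      rw [mul_smul]
      refine layer_smul hk.1 ?_
      rcases (hL tg ht).orb m hm with e' | ⟨k', hk', tg', -, e'⟩
      · exact Or.inl e'
      · rw [e', ← mul_smul]; exact smul_stdX_cases _
    · exact Or.inr hm

/-- **The layers of the graph.** -/
theorem layered_of_local : ∃ (d : ↥Spor.Co2 ⧸ N2 → ℕ) (B : ℕ),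
    Co1Mult.Layered (edgeAdj N2 σ) d ((1 : ↥Spor.Co2) : ↥Spor.Co2 ⧸ N2) B := by
  have hzero : ∀ x, layer (cx x) = 0 → x = ((1 : ↥Spor.Co2) : ↥Spor.Co2 ⧸ N2) := fun x hx => by
    refine cx_injective ?_
    rw [cx_mk, map_one, one_smul]
    exact layer_eq_zero hx
  have hirr : ∀ x, ¬ edgeAdj N2 σ x x := by
    intro x hx
    rw [edgeAdj_iff hσ, cx, adj_iff_of rfl, inv_smul_smul] at hx
    exact stdX_not_mem _ hx
  refine ⟨fun x => layer (cx x), 3, ⟨hirr, hzero, fun x => layer_le, ?step, ?pred, ?conn, ?apex⟩⟩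
  case step =>
    intro x y hxy
    show layer (cx y) ≤ layer (cx x) + 1
    by_cases h0 : layer (cx x) = 0
    · obtain ⟨m, hm, hy⟩ := nb hσ (one_smul Co0 _) (by rw [one_smul]; exact layer_eq_zero h0) hxy
      rw [hy, one_smul, layer_of_orbit (good_mem hσ hm), h0]
      simp
    · obtain ⟨k, -, tg, ht, hx, hg, hd, hl⟩ := normal_pos hσ hL hgen h0
      obtain ⟨m, hm, hy⟩ := nb hσ hg hx hxy
      rw [hy, (hl m).resolve_right (by omega), hd]
      exact (hL tg ht).step m hm
  case pred =>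
    intro x h0
    obtain ⟨k, -, tg, ht, hx, hg, hd, hl⟩ := normal_pos hσ hL hgen h0
    obtain ⟨m, hm, hml⟩ := (hL tg ht).pred
    obtain ⟨y, hy⟩ := nb_exists hσ hg hm
    refine ⟨y, (edgeAdj_iff hσ).2 ?_, ?_⟩
    · rw [hx, hy]; exact (adj_stdX.2 (good_mem hσ hm)).smul _
    · show layer (cx y) + 1 = layer (cx x)
      rw [hy, (hl m).resolve_right (by omega), hd, hml]
  case conn =>
    intro x p q hp hq
    have h0 : layer (cx x) ≠ 0 := by have h := hp.2; simp only at h; omega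
    obtain ⟨k, -, tg, ht, hx, hg, hd, hl⟩ := normal_pos hσ hL hgen h0
    obtain ⟨a, ha, hpa⟩ := nb hσ hg hx hp.1
    obtain ⟨b, hb, hqb⟩ := nb hσ hg hx hq.1
    have conv : ∀ {y m}, m < 462 → cx y = (k * el (reps tg).1.1) • nbr (giAt m) →
        layer (cx y) = layer (el (reps tg).1.1 • nbr (giAt m)) := fun hm e => by
      rw [e, (hl _).resolve_right (by omega)]
    have hconn := (hL tg ht).conn a b ha hb (by rw [← conv ha hpa, ← hd]; exact hp.2)
      (by rw [← conv hb hqb, ← hd]; exact hq.2)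
    classical
    let f : ℕ → ↥Spor.Co2 ⧸ N2 := fun m =>
      Function.invFun cx ((k * el (reps tg).1.1) • nbr (giAt m))
    have hf : ∀ {m y}, cx y = (k * el (reps tg).1.1) • nbr (giAt m) → f m = y := fun {m y} e => by
      show Function.invFun cx _ = y
      rw [← e, Function.leftInverse_invFun cx_injective]
    have hf' : ∀ {m}, m < 462 → cx (f m) = (k * el (reps tg).1.1) • nbr (giAt m) := fun hm => by
      obtain ⟨y, hy⟩ := nb_exists hσ hg hm
      rw [hf hy, hy]
    have hlift : ∀ {u v}, Relation.ReflTransGen (fun a b => Adj (nbr (giAt a)) (nbr (giAt b)) ∧ b < 462 ∧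
        layer (el (reps tg).1.1 • nbr (giAt b)) + 1 = layT tg) u v → u < 462 →
        v < 462 ∧ Relation.ReflTransGen (fun a b => edgeAdj N2 σ a b ∧
          Co1Mult.Down (edgeAdj N2 σ) (fun z => layer (cx z)) x b) (f u) (f v) := by
      intro u v huv hu
      induction huv with
      | refl => exact ⟨hu, .refl⟩
      | tail _ h ih =>
        obtain ⟨hab, hc, hcl⟩ := h
        refine ⟨hc, ih.2.tail ⟨(edgeAdj_iff hσ).2 ?_, (edgeAdj_iff hσ).2 ?_, ?_⟩⟩
        · rw [hf' ih.1, hf' hc]; exact hab.smul _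
        · rw [hx, hf' hc]; exact (adj_stdX.2 (good_mem hσ hc)).smul _
        · show layer (cx (f _)) + 1 = layer (cx x)
          rw [conv hc (hf' hc), hd, hcl]
    rw [← hf hpa, ← hf hqb]
    exact (hlift hconn ha).2
  case apex =>
    intro x y hxy hdd
    change layer (cx x) = layer (cx y) at hdd
    by_cases h0 : layer (cx x) = 0
    · exfalso
      refine hirr x ?_
      rwa [hzero y (hdd.symm.trans h0), ← hzero x h0] at hxy
    · obtain ⟨k, -, tg, ht, hx, hg, hd, hl⟩ := normal_pos hσ hL hgen h0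
      obtain ⟨m, hm, hy⟩ := nb hσ hg hx hxy
      obtain ⟨w, hw, hwl, hadj⟩ := (hL tg ht).apex m hm
        (by rw [← (hl m).resolve_right (by omega), ← hy, ← hdd, hd])
      obtain ⟨p, hp⟩ := nb_exists hσ hg hw
      refine Or.inl ⟨p, ⟨(edgeAdj_iff hσ).2 ?_, ?_⟩, (edgeAdj_iff hσ).2 ?_⟩
      · rw [hx, hp]; exact (adj_stdX.2 (good_mem hσ hw)).smul _
      · show layer (cx p) + 1 = layer (cx x)
        rw [hp, (hl w).resolve_right (by omega), hd, hwl]
      · rw [hy, hp]; exact hadj.smul _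

end Cfsg.Agent.Co2Recog.Layers
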