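import Cfsg.Agent.Lib.Co2Recog.Layers.Reps
import Cfsg.Agent.Lib.Co2Recog.Layers.NbrC42Data

/-!
Kernel checks for the neighbours of a cross of type C42.
-/

set_option autoImplicit false
set_option maxRecDepth 20000
set_option Elab.async false

namespace Cfsg.Agent.Co2Recog.Layers

open Cfsg.Agent.PermCert (allBelow allBelow_spec)

/-- The tables. -/
def tabC42 : Tables := ⟨rowC42, witC42, treeC42⟩

theorem rowC42_0 : allBelow (fun i => rowOK2 reps giAt (gC42Mat, gC42Cols) tabC42 2 (0 + i)) 231 = true := by
  decide +kernel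

theorem rowC42_1 : allBelow (fun i => rowOK2 reps giAt (gC42Mat, gC42Cols) tabC42 2 (231 + i)) 231 = true := by
  decide +kernel

theorem rowC42_all : ∀ m < 462, rowOK2 reps giAt (gC42Mat, gC42Cols) tabC42 2 m = true :=
  below_two rowC42_0 rowC42_1

theorem treeC42_ok : treeOK2 giAt tabC42 2 = true := by decide +kernel

end Cfsg.Agent.Co2Recog.Layers
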