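import Cfsg.Agent.Lib.Co2Recog.Layers.Dict
import Cfsg.Agent.Lib.Co2Recog.Layers.NbrBChecks
import Cfsg.Agent.Lib.Co2Recog.Layers.NbrC6Checks
import Cfsg.Agent.Lib.Co2Recog.Layers.NbrC42Checks
import Cfsg.Agent.Lib.Co2Recog.Layers.NbrGChecks

/-!
The layered certificate of the graph on the crosses of the second Conway group.
-/

set_option autoImplicit false
set_option maxRecDepth 10000

namespace Cfsg.Agent.Co2Recog.Layers

open Cfsg Cfsg.Agent.Leech
open scoped Pointwise

attribute [local irreducible] rowB rowC6 rowC42 rowG treeB treeC6 treeC42 treeG witB witC6 witC42 witG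
  gBMat gC6Mat gC42Mat gGMat gBCols gC6Cols gC42Cols gGCols gBAx gC6Ax gC42Ax gGAx goodIdx baseWit

theorem all_local : AllLocal := by
  have hP : ∀ tg, tagT tg = true → Co1Out.GenOK (reps tg).1 ∧ axOK (reps tg).1.1 (reps tg).2 = true :=
    fun tg h => ⟨(reps_ok h).1, (reps_ok h).2.1⟩
  intro tg h
  obtain ⟨hg, -, hu, -⟩ := reps_ok h
  simp only [tagT, Bool.or_eq_true, Nat.beq_eq] at h
  rcases h with ((rfl | rfl) | rfl) | rfl
  · exact localU_of Co1Recog.baseOK_all hg hu hP rowB_all treeB_ok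
  · exact localU_of Co1Recog.baseOK_all hg hu hP rowC6_all treeC6_ok
  · exact localU_of Co1Recog.baseOK_all hg hu hP rowC42_all treeC42_ok
  · exact localU_of Co1Recog.baseOK_all hg hu hP rowG_all treeG_ok

/-- **The certificate**: for any element joining the base cross to one of type B. -/
theorem layered_cert {σ : ↥Spor.Co2} (hσ : incl2 σ • stdX ∈ crossOrbit .B)
    (hgen : Subgroup.closure ((N2 : Set ↥Spor.Co2) ∪ {σ}) = ⊤) :
    ∃ (d : ↥Spor.Co2 ⧸ N2 → ℕ) (B : ℕ),
      Co1Mult.Layered (Co1Amalgam.edgeAdj N2 σ) d ((1 : ↥Spor.Co2) : ↥Spor.Co2 ⧸ N2) B :=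
  layered_of_local hσ all_local hgen

end Cfsg.Agent.Co2Recog.Layers
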