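import Cfsg.Agent.Lib.Co1Recog.Rows
import Cfsg.Prelude.Def_Spor_Conway

/-!
The crosses seen from the vector of norm four: monomial witnesses and a test of the neighbours of a cross.
-/

set_option autoImplicit false
set_option maxRecDepth 10000

noncomputable section

namespace Cfsg.Agent.Co2Recog.Layers

open Cfsg Cfsg.Agent.Golay Cfsg.Agent.Leech Cfsg.Agent.PermCert Cfsg.Agent.Co1Recog Cfsg.Agent.SporPerm Cfsg.Agent.LeechMod
open Cfsg.Agent.LeechOrbit (dec length_dec)
open Cfsg.Agent.Co1Out (Gen GenOK el el_spec runP runP_spec run_spec prodEl forceN forceN_eq app axisL toVec_axisL)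
open scoped Pointwise

/-- The monomial elements fixing the vector. -/
def Nst : Subgroup Co0 := crossStab ⊓ MulAction.stabilizer Co0 Spor.leechU

/-- The mask of the vector. -/
def uPair : ℕ := 8388609

/-- The vector as a list. -/
def uList : List ℤ := (List.range 24).map fun i => bif uPair.testBit i then 4 else 0

theorem vecU_eq : ∀ p : GolayPt, Spor.vecU p = if uPair.testBit (idx p) then 4 else 0 := by decide +kernel

theorem toVec_uList : toVec uList = (Spor.leechU : GolayPt → ℤ) := funext fun p => by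
  show uList.getD (idx p) 0 = Spor.vecU p
  revert p
  decide +kernel

/-- The coded monomial element is valid and fixes the vector. -/
def elemOK (e : Elt) (s : ℕ) : Bool :=
  validElt 5 24 e && isAutB e && inCode s &&
    allBelow (fun i => (uPair.testBit (get 5 e.2 i) == uPair.testBit i) && !(s.testBit i && uPair.testBit i)) 24

/-- The coded monomial element carries the one code to the other. -/
def monoOK (m c : ℕ) (e : Elt) (s : ℕ) : Bool :=
  allBelow (fun i => forceN (PermCert.get 4 m (get 5 e.2 i)) fun d =>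
    Nat.beq (PermCert.get 4 c i) (bif s.testBit i then 16 - d else d)) 24

theorem exists_mono {e : Elt} {s : ℕ} (he : elemOK e s = true) :
    ∃ k ∈ Nst, ∀ (m c : ℕ) (w v : leechLattice), toVec (dec 24 m) = (w : GolayPt → ℤ) →
      toVec (dec 24 c) = (v : GolayPt → ℤ) → monoOK m c e s = true → k • w = v := by
  simp only [elemOK, Bool.and_eq_true] at he
  obtain ⟨⟨⟨hv, ha⟩, hc⟩, hfix⟩ := he
  let a : M24 × golayCode := (⟨permOf e, permOf_mem_M24 hv ha⟩, ⟨ofMask s, ofMask_mem_golayCode hc⟩)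
  refine ⟨mono a, ⟨MulAction.mem_stabilizer_iff.2 (mono_smul_stdX a), MulAction.mem_stabilizer_iff.2 ?_⟩,
    fun m c w v hw hv' hmc => ?_⟩
  · refine Subtype.ext ((mono_smul a _).trans (funext fun p => ?_))
    show sgn (ofMask s) p * Spor.vecU ((permOf e).symm p) = Spor.vecU p
    have h := allBelow_spec _ _ hfix (idx p) (idx_lt p)
    simp only [Bool.and_eq_true, beq_iff_eq, Bool.not_eq_eq_eq_not, Bool.not_true] at h
    rw [vecU_eq, vecU_eq, idx_permOf_symm hv, h.1]
    cases hu : uPair.testBit (idx p)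
    · simp
    · rw [hu, Bool.and_true] at h
      simp [sgn, ofMask, h.2]
  · refine Subtype.ext ((mono_smul a _).trans (funext fun p => ?_))
    show sgn (ofMask s) p * (w : GolayPt → ℤ) ((permOf e).symm p) = (v : GolayPt → ℤ) p
    have h := allBelow_spec _ _ hmc (idx p) (idx_lt p)
    simp only [forceN_eq, Nat.beq_eq] at h
    rw [← hw, ← hv', toVec_dec, toVec_dec, idx_permOf_symm hv, h]
    have : PermCert.get 4 m (get 5 e.2 (idx p)) < 16 := by
      unfold PermCert.get
      exact Nat.mod_lt _ (by norm_num)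
    cases hs : s.testBit (idx p)
    · simp [sgn, ofMask, hs]
    · simp only [sgn, ofMask, hs, if_true, cond_true, one_ne_zero, if_false]
      omega

/-- The element fixes the vector. -/
def uFixed (M : List (List ℤ)) : Bool := eqV uList (app M uList)

theorem uFixed_spec {M : List (List ℤ)} (hm : matOK M = true) (h : uFixed M = true) :
    el M • Spor.leechU = Spor.leechU := by
  refine Subtype.ext ?_
  rw [el_spec hm, ← toVec_uList, mapMat_toVec (Co1Out.shapeOK_of_matOK hm) (by rfl)]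
  exact congrArg toVec (eqV_iff.1 h).symm

/-- The codes of the images of the axes. -/
def axOK (M : List (List ℤ)) (A : List ℕ) : Bool :=
  allBelow (fun i => eqV (dec 24 (A.getD i 0)) (app M (axisL i))) 24

theorem axOK_spec {M : List (List ℤ)} {A : List ℕ} (hm : matOK M = true) (h : axOK M A = true) {i : ℕ}
    (hi : i < 24) : toVec (dec 24 (A.getD i 0)) = ((el M • axis (pt ⟨i, hi⟩) : leechLattice) : GolayPt → ℤ) := by
  rw [eqV_iff.1 (allBelow_spec _ _ h i hi), el_spec hm, ← toVec_axisL, mapMat_toVec (Co1Out.shapeOK_of_matOK hm)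
    (Co1Out.length_axisL _), idx_pt]
  rfl

theorem xCross_axis (p : GolayPt) : xCross (axis p) = stdX :=
  xCross_eq_of_mem (mem_xCross_axis.2 (mem_stdCross_iff.2 ⟨p, 1, Or.inl rfl, (one_smul _ _).symm⟩))

/-! ### The tests -/

/-- An entry of a table in blocks. -/
def entry {α : Type} (R : List (List α)) (n : ℕ) (d : α) (j : ℕ) : α := (R.getD (j / n) []).getD (j % n) d

/-- A witness. -/
abbrev Wit : Type := (ℕ × ℕ) × ℕ × ℕ

/-- The tables at one representative. -/
structure Tables where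
  rows : List (List ℕ)
  wits : List (List Wit)
  tree : List (List (ℕ × ℕ))

/-- The representatives by their tags. -/
abbrev Reps : Type := ℕ → Gen × List ℕ

/-- A tag of one of the four representatives. -/
def tagT (tg : ℕ) : Bool := Nat.beq tg 1 || Nat.beq tg 2 || Nat.beq tg 3 || Nat.beq tg 5

/-- The row of a neighbour. -/
def rowT (D : Tables) (m : ℕ) : ℕ := entry D.rows 33 0 m

/-- The layer of a neighbour. -/
def layM (D : Tables) (m : ℕ) : ℕ := layT (rowT D m / 128 % 8)

/-- The neighbour of an index is correct. -/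
def rowOK2 (P : Reps) (gi : ℕ → ℕ) (g : Gen) (D : Tables) (L m : ℕ) : Bool :=
  forceN (gi m) fun j => Nat.blt j 3542 &&
  forceN (rowT D m) fun r => Nat.blt (r % 8) 6 &&
  (forceN ((sxAt (j / 2)).getD (r % 8) 0) fun U =>
   forceN (mkV U (r / 8 % 16)) fun c => bvOK c U (j % 2) && runP [g] c (fun q =>
     forceN (r / 128 % 8) fun tg => tagOK tg q &&
       (Nat.beq tg 0 || (tagT tg &&
        (match entry D.wits 22 ((0, 0), 0, 0) m with
         | (e, s, i) => elemOK e s && Nat.blt i 24 &&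
            forceN ((P tg).2.getD i 0) fun a => monoOK a q e s))))) &&
  forceN (layT (r / 128 % 8)) fun l => Nat.ble l (L + 1) &&
  (bif Nat.beq l L then
    forceN (r / 1024) fun w => Nat.blt w 462 && Nat.beq (layM D w + 1) L && adjB j (gi w) else true) &&
  (bif Nat.beq (l + 1) L then D.tree.any fun B => B.any fun e => Nat.beq e.1 m else true)

/-- The tree of lower neighbours. -/
def treeGo2 (gi : ℕ → ℕ) (D : Tables) (L : ℕ) : List ℕ → List (ℕ × ℕ) → Bool
  | _, [] => true
  | seen, (a, p) :: rest =>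
    Nat.blt a 462 && Nat.beq (layM D a + 1) L &&
      ((seen.isEmpty && Nat.beq a p) || ((seen.any fun s => Nat.beq s p) &&
        adjB (gi a) (gi p) && adjB (gi p) (gi a))) &&
      treeGo2 gi D L (a :: seen) rest

/-- The tree test. -/
def treeOK2 (gi : ℕ → ℕ) (D : Tables) (L : ℕ) : Bool :=
  !D.tree.flatten.isEmpty && treeGo2 gi D L [] D.tree.flatten

theorem treeGo2_spec {gi : ℕ → ℕ} {D : Tables} {L : ℕ} (R : ℕ → ℕ → Prop) (root : ℕ)
    (hR : ∀ a b, a < 462 → b < 462 → layM D b + 1 = L → adjB (gi a) (gi b) = true → R a b) :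
    ∀ (rest : List (ℕ × ℕ)) (seen : List ℕ), treeGo2 gi D L seen rest = true →
      (∀ s ∈ seen, (s < 462 ∧ layM D s + 1 = L) ∧ Relation.ReflTransGen R root s ∧ Relation.ReflTransGen R s root) →
      (seen = [] → ∀ e, rest.head? = some e → e.1 = root) →
      ∀ e ∈ rest, (e.1 < 462 ∧ layM D e.1 + 1 = L) ∧ Relation.ReflTransGen R root e.1 ∧
        Relation.ReflTransGen R e.1 root
  | [], _, _, _, _ => fun e he => by simp at he
  | (a, p) :: rest, seen, h, hs, h0 => by
    simp only [treeGo2, Bool.and_eq_true, Bool.or_eq_true, List.any_eq_true, Nat.blt_eq, Nat.beq_eq,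
      List.isEmpty_iff] at h
    obtain ⟨⟨⟨ha, hl⟩, hcase⟩, hrest⟩ := h
    have hA : (a < 462 ∧ layM D a + 1 = L) ∧ Relation.ReflTransGen R root a ∧ Relation.ReflTransGen R a root := by
      rcases hcase with ⟨he, -⟩ | ⟨⟨⟨s, hs', rfl⟩, h1⟩, h2⟩
      · have := h0 he (a, p) rfl
        simp only at this
        subst this
        exact ⟨⟨ha, hl⟩, .refl, .refl⟩
      · obtain ⟨⟨hs1, hs2⟩, r1, r2⟩ := hs s hs'
        exact ⟨⟨ha, hl⟩, r1.tail (hR _ _ hs1 ha hl h2), r2.head (hR _ _ ha hs1 hs2 h1)⟩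
    intro e he
    rcases List.mem_cons.1 he with rfl | he
    · exact hA
    · exact treeGo2_spec R root hR rest (a :: seen) hrest (fun s hs' => (List.mem_cons.1 hs').elim (fun e => e ▸ hA)
        (hs s)) (fun e => by simp at e) e he

/-- What the tests say at a representative. -/
structure LocalU (P : Reps) (gi : ℕ → ℕ) (G : Co0) (L : ℕ) : Prop where
  fixU : G • Spor.leechU = Spor.leechU
  step : ∀ m < 462, layer (G • nbr (gi m)) ≤ L + 1
  orb : ∀ m < 462, G • nbr (gi m) = stdX ∨ ∃ k ∈ Nst, ∃ tg, tagT tg = true ∧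
    G • nbr (gi m) = k • el (P tg).1.1 • stdX
  pred : ∃ m < 462, layer (G • nbr (gi m)) + 1 = L
  conn : ∀ p q, p < 462 → q < 462 → layer (G • nbr (gi p)) + 1 = L → layer (G • nbr (gi q)) + 1 = L →
    Relation.ReflTransGen (fun a b => Adj (nbr (gi a)) (nbr (gi b)) ∧ b < 462 ∧
      layer (G • nbr (gi b)) + 1 = L) p q
  apex : ∀ m < 462, layer (G • nbr (gi m)) = L →
    ∃ p < 462, layer (G • nbr (gi p)) + 1 = L ∧ Adj (nbr (gi m)) (nbr (gi p))

theorem localU_of (hB : BaseOK) {P : Reps} {gi : ℕ → ℕ} {g : Gen} {D : Tables} {L : ℕ} (hg : GenOK g)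
    (hU : uFixed g.1 = true)
    (hP : ∀ tg, tagT tg = true → GenOK (P tg).1 ∧ axOK (P tg).1.1 (P tg).2 = true)
    (hR : ∀ m < 462, rowOK2 P gi g D L m = true) (hT : treeOK2 gi D L = true) :
    LocalU P gi (el g.1) L := by
  have key : ∀ m < 462, gi m < 3542 ∧ layer (el g.1 • nbr (gi m)) = layM D m ∧
      (el g.1 • nbr (gi m) = stdX ∨ ∃ k ∈ Nst, ∃ tg, tagT tg = true ∧
        el g.1 • nbr (gi m) = k • el (P tg).1.1 • stdX) ∧
      layM D m ≤ L + 1 ∧
      (layM D m = L → rowT D m / 1024 < 462 ∧ layM D (rowT D m / 1024) + 1 = L ∧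
        adjB (gi m) (gi (rowT D m / 1024)) = true) ∧
      (layM D m + 1 = L → ∃ e ∈ D.tree.flatten, e.1 = m) := by
    intro m hm
    have h := hR m hm
    simp only [rowOK2, forceN_eq, Bool.and_eq_true, Nat.blt_eq, Nat.ble_eq] at h
    obtain ⟨hj, ⟨hk, hc, hr⟩, ⟨hl, hw⟩, ht⟩ := h
    refine ⟨hj, ?_⟩
    obtain ⟨w, hwc, hb⟩ := exists_bv hc
    obtain ⟨L', hL'e, hL'⟩ := sx_spec hB hj
    have hlen : (sxAt (gi m / 2)).length = 6 := by
      rw [hL'e]; simp only [sxOK, Bool.and_eq_true, Nat.beq_eq] at hL'; exact hL'.1.1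
    have hUm : (sxAt (gi m / 2)).getD (rowT D m % 8) 0 ∈ sxAt (gi m / 2) := by
      rw [List.getD_eq_getElem _ _ (by omega)]; exact List.getElem_mem _
    have hwj := mem_nbr hB hj hb hUm
    obtain ⟨v, -, -, ev⟩ := nbr_spec hB hj
    have hgood : ∀ f ∈ [g], GenOK f := fun f hf => List.mem_singleton.1 hf ▸ hg
    obtain ⟨q, hq, htag⟩ := runP_spec hgood hr
    have hqv : toVec (dec 24 q) = ((el g.1 • w : leechLattice) : GolayPt → ℤ) := by
      rw [hq, run_spec hgood (length_dec _ _) hwc, show prodEl [g] = el g.1 by simp [prodEl]]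
    rw [ev] at hwj
    have h8 : ip (el g.1 • w) (el g.1 • w) = 8 := by rw [co0_ip]; exact hwj.1
    have e : el g.1 • nbr (gi m) = xCross (el g.1 • w) := by rw [← smul_xCross, ev, xCross_eq_of_mem hwj]
    simp only [Bool.and_eq_true, Bool.or_eq_true, Nat.beq_eq] at htag
    refine ⟨by rw [e]; exact layer_tag (tag_spec htag.1 hqv h8), ?_, hl, fun e => ?_, fun e => ?_⟩
    · rcases htag.2 with h0 | ⟨hT', hwit⟩
      · left
        rw [e]
        have := tag_spec htag.1 hqv h8
        rw [h0] at this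
        exact this
      · right
        obtain ⟨ee, s, i⟩ := entry D.wits 22 ((0, 0), 0, 0) m
        simp only [Nat.blt_eq] at hwit
        obtain ⟨⟨he, hi⟩, hmo⟩ := hwit
        obtain ⟨k, hk, hkm⟩ := exists_mono he
        refine ⟨k, hk, _, hT', ?_⟩
        obtain ⟨hPg, hPa⟩ := hP _ hT'
        rw [e, ← hkm _ _ _ _ (axOK_spec hPg.1 hPa hi) hqv hmo, ← smul_xCross, ← smul_xCross, xCross_axis]
    · rw [show Nat.beq (layT (rowT D m / 128 % 8)) L = true by rw [Nat.beq_eq]; exact e, cond_true] at hw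
      simp only [Bool.and_eq_true, Nat.blt_eq, Nat.beq_eq] at hw
      exact ⟨hw.1.1, hw.1.2, hw.2⟩
    · rw [show Nat.beq (layT (rowT D m / 128 % 8) + 1) L = true by rw [Nat.beq_eq]; exact e, cond_true] at ht
      simp only [List.any_eq_true, Nat.beq_eq] at ht
      obtain ⟨B, hB', x, hx, e'⟩ := ht
      exact ⟨x, List.mem_flatten.2 ⟨B, hB', hx⟩, e'⟩
  simp only [treeOK2, Bool.and_eq_true, Bool.not_eq_eq_eq_not, Bool.not_true, List.isEmpty_eq_false_iff] at hT
  obtain ⟨hne, hgo⟩ := hT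
  obtain ⟨⟨root, rp⟩, rest, hflat⟩ := List.exists_cons_of_ne_nil hne
  let R : ℕ → ℕ → Prop := fun a b => Adj (nbr (gi a)) (nbr (gi b)) ∧ b < 462 ∧
    layer (el g.1 • nbr (gi b)) + 1 = L
  have htree := treeGo2_spec R root (fun a b ha hb hlb h =>
    ⟨adj_nbr hB (key a ha).1 (key b hb).1 h, hb, by rw [(key b hb).2.1]; exact hlb⟩) _ [] hgo (by simp)
    (fun _ e he => by rw [hflat] at he; simp at he; rw [← he])
  refine ⟨uFixed_spec hg.1 hU, fun m hm => ?_, fun m hm => (key m hm).2.2.1, ?_, fun p q hp hq hpl hql => ?_,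
    fun m hm hml => ?_⟩
  · rw [(key m hm).2.1]; exact (key m hm).2.2.2.1
  · obtain ⟨⟨hr, hl⟩, -⟩ := htree (root, rp) (by simp [hflat])
    exact ⟨root, hr, by rw [(key root hr).2.1]; exact hl⟩
  · rw [(key p hp).2.1] at hpl
    rw [(key q hq).2.1] at hql
    obtain ⟨ea, hea, rfl⟩ := (key p hp).2.2.2.2.2 hpl
    obtain ⟨eb, heb, rfl⟩ := (key q hq).2.2.2.2.2 hql
    exact (htree ea hea).2.2.trans (htree eb heb).2.1
  · rw [(key m hm).2.1] at hml
    obtain ⟨hw, hwl, hadjw⟩ := (key m hm).2.2.2.2.1 hml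
    exact ⟨_, hw, by rw [(key _ hw).2.1]; exact hwl, adj_nbr hB (key m hm).1 (key _ hw).1 hadjw⟩

/-! ### The base -/

/-- The base witness of an index. -/
def baseWOK (gi : ℕ → ℕ) (W : List (List Wit)) (m : ℕ) : Bool :=
  forceN (gi m) fun j => Nat.blt j 3542 &&
  match entry W 22 ((0, 0), 0, 0) m with
  | (e, s, d) => elemOK e s && Nat.blt (d % 8) 6 &&
      forceN ((sxAt (j / 2)).getD (d % 8) 0) fun U => forceN (mkV U (d / 8)) fun c =>
        bvOK c U (j % 2) && monoOK (vCode (gi 0)) c e s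

theorem base_move (hB : BaseOK) {gi : ℕ → ℕ} {W : List (List Wit)} (h0 : gi 0 < 3542) {m : ℕ}
    (h : baseWOK gi W m = true) : ∃ k ∈ Nst, k • nbr (gi 0) = nbr (gi m) := by
  simp only [baseWOK, forceN_eq, Bool.and_eq_true, Nat.blt_eq] at h
  obtain ⟨hj, h⟩ := h
  generalize entry W 22 ((0, 0), 0, 0) m = en at h
  obtain ⟨e, s, d⟩ := en
  dsimp only at h
  obtain ⟨⟨he, hd⟩, hc, hmo⟩ := h
  obtain ⟨k, hk, hkm⟩ := exists_mono he
  have hb0 := hB (gi 0) h0
  simp only [baseOK, forceN_eq, Bool.and_eq_true] at hb0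
  obtain ⟨v0, hv0, hbv0⟩ := exists_bv hb0.2.1.1
  obtain ⟨v, hv, hbv⟩ := exists_bv hc
  obtain ⟨L', hL'e, hL'⟩ := sx_spec hB hj
  have hlen : (sxAt (gi m / 2)).length = 6 := by
    rw [hL'e]; simp only [sxOK, Bool.and_eq_true, Nat.beq_eq] at hL'; exact hL'.1.1
  have hUm : (sxAt (gi m / 2)).getD (d % 8) 0 ∈ sxAt (gi m / 2) := by
    rw [List.getD_eq_getElem _ _ (by omega)]; exact List.getElem_mem _
  have hvj := mem_nbr hB hj hbv hUm
  obtain ⟨w, -, -, ew⟩ := nbr_spec hB hj
  obtain ⟨L0, hL0e, -⟩ := sx_spec hB h0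
  have hv0j := mem_nbr hB h0 hbv0 (by rw [hL0e]; exact List.mem_cons_self)
  obtain ⟨w0, -, -, ew0⟩ := nbr_spec hB h0
  rw [ew] at hvj
  rw [ew0] at hv0j
  refine ⟨k, hk, ?_⟩
  rw [ew, ← xCross_eq_of_mem hvj, ← hkm _ _ _ _ hv0 hv hmo, ew0, ← xCross_eq_of_mem hv0j, smul_xCross]

end Cfsg.Agent.Co2Recog.Layers
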