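import Cfsg.Agent.Lib.Co2Recog.Layers.Basic
import Cfsg.Agent.Lib.Co2Recog.Layers.BaseData
import Cfsg.Agent.Lib.Co2Recog.Layers.NbrBData
import Cfsg.Agent.Lib.Co2Recog.Layers.NbrC6Data
import Cfsg.Agent.Lib.Co2Recog.Layers.NbrC42Data
import Cfsg.Agent.Lib.Co2Recog.Layers.NbrGData

/-!
The four representatives and the list of the neighbours of the base cross, checked.
-/

set_option autoImplicit false
set_option maxRecDepth 20000
set_option Elab.async false

namespace Cfsg.Agent.Co2Recog.Layers

open Cfsg Cfsg.Agent.PermCert Cfsg.Agent.Co1Recog Cfsg.Agent.SporPerm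
open Cfsg.Agent.LeechOrbit (smallOK colsOK)
open Cfsg.Agent.Co1Out (GenOK)

/-- The representative of a tag. -/
def reps : Reps := fun tg =>
  bif Nat.beq tg 1 then ((gBMat, gBCols), gBAx)
  else bif Nat.beq tg 2 then ((gC6Mat, gC6Cols), gC6Ax)
  else bif Nat.beq tg 3 then ((gC42Mat, gC42Cols), gC42Ax)
  else ((gGMat, gGCols), gGAx)

/-- The index of a neighbour. -/
def giAt (m : ℕ) : ℕ := entry goodIdx 33 0 m

/-- A tetrad contains the pair. -/
def pairPred (j : ℕ) : Bool := (sxAt (j / 2)).any fun T => T.testBit 23 && T.testBit 0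

/-- One representative is sound. -/
def repOK (tg : ℕ) : Bool :=
  matOK (reps tg).1.1 && smallOK (reps tg).1.1 && colsOK (reps tg).1.1 (reps tg).1.2 &&
    axOK (reps tg).1.1 (reps tg).2 && uFixed (reps tg).1.1 && tagOK tg ((reps tg).2.getD 0 0)

theorem below_two {p : ℕ → Bool} (h0 : allBelow (fun i => p (0 + i)) 231 = true)
    (h1 : allBelow (fun i => p (231 + i)) 231 = true) : ∀ m < 462, p m = true := by
  intro m hm
  rcases Nat.lt_or_ge m 231 with h | h
  · have := allBelow_spec _ _ h0 m h
    rwa [Nat.zero_add] at this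
  · have := allBelow_spec _ _ h1 (m - 231) (by omega)
    rwa [Nat.add_sub_cancel' h] at this

theorem reps_check : (repOK 1 && repOK 2 && repOK 3 && repOK 5) = true := by decide +kernel

attribute [local irreducible] gBMat gC6Mat gC42Mat gGMat in
theorem repOK_all {tg : ℕ} (h : tagT tg = true) : repOK tg = true := by
  have h' := reps_check
  simp only [Bool.and_eq_true] at h'
  obtain ⟨⟨⟨h1, h2⟩, h3⟩, h5⟩ := h'
  simp only [tagT, Bool.or_eq_true, Nat.beq_eq] at h
  rcases h with ((rfl | rfl) | rfl) | rfl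
  exacts [h1, h2, h3, h5]

theorem reps_ok {tg : ℕ} (h : tagT tg = true) :
    GenOK (reps tg).1 ∧ axOK (reps tg).1.1 (reps tg).2 = true ∧ uFixed (reps tg).1.1 = true ∧
      tagOK tg ((reps tg).2.getD 0 0) = true := by
  have h' := repOK_all h
  simp only [repOK, Bool.and_eq_true] at h'
  exact ⟨⟨h'.1.1.1.1.1, h'.1.1.1.1.2, h'.1.1.1.2⟩, h'.1.1.2, h'.1.2, h'.2⟩

theorem list_check : (((List.range 3542).filter pairPred) == goodIdx.flatten &&
    Nat.beq goodIdx.flatten.length 462 &&
    allBelow (fun m => Nat.beq (goodIdx.flatten.getD m 0) (giAt m)) 462) = true := by decide +kernel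

theorem exists_gi {j : ℕ} (hj : j < 3542) (h : pairPred j = true) : ∃ m < 462, giAt m = j := by
  have h' := list_check
  simp only [Bool.and_eq_true, beq_iff_eq, Nat.beq_eq] at h'
  obtain ⟨⟨he, hl⟩, ha⟩ := h'
  have hmem : j ∈ goodIdx.flatten := by
    rw [← he]; exact List.mem_filter.2 ⟨List.mem_range.2 hj, h⟩
  obtain ⟨m, hm, e⟩ := List.getElem_of_mem hmem
  refine ⟨m, by omega, ?_⟩
  have := allBelow_spec _ _ ha m (by omega)
  rw [Nat.beq_eq, List.getD_eq_getElem _ _ hm, e] at this
  exact this.symm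

theorem base_check_0 : allBelow (fun i => baseWOK giAt baseWit (0 + i)) 231 = true := by decide +kernel

theorem base_check_1 : allBelow (fun i => baseWOK giAt baseWit (231 + i)) 231 = true := by decide +kernel

theorem base_all : ∀ m < 462, baseWOK giAt baseWit m = true := below_two base_check_0 base_check_1

theorem giAt_lt {m : ℕ} (hm : m < 462) : giAt m < 3542 := by
  have h := base_all m hm
  simp only [baseWOK, Co1Out.forceN_eq, Bool.and_eq_true, Nat.blt_eq] at h
  exact h.1

end Cfsg.Agent.Co2Recog.Layers
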